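import Mathlib
import Groth.Agent.CotTLib.LocalCI
import Groth.Agent.CotTLib.Syzygy

/-!
# Presentations of local rings as quotients of regular local rings

For a surjection `f : R →+* A` from a regular local ring, `μ(ker f) - dim R` does not depend on `f`: the first
Koszul homology of a generating tuple of the maximal ideal of `A` computes it.
-/

set_option autoImplicit false
set_option linter.style.haveILetI false
set_option backward.isDefEq.respectTransparency false
set_option backward.isDefEq.respectTransparency.types false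

noncomputable section

universe u

open IsLocalRing RingTheory.Sequence

namespace Groth.Agent.CIPres

section Regular

variable {R : Type u} [CommRing R] [IsRegularLocalRing R]

/-- An ideal of a regular local ring is generated by a regular sequence iff its number of generators is at most
its codimension. -/
theorem exists_regular_iff (I : Ideal R) (hI : I ≠ ⊤) :
    (∃ rs : List R, Ideal.ofList rs = I ∧ IsRegular R rs) ↔
      (I.spanFinrank : WithBot ℕ∞) + ringKrullDim (R ⧸ I) ≤ ringKrullDim R := by
  classical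
  constructor
  · rintro ⟨rs, rfl, hreg⟩
    rw [← ringKrullDim_add_length_eq_ringKrullDim_of_isRegular rs hreg, add_comm (ringKrullDim _)]
    refine add_le_add ?_ le_rfl
    have h1 : (Ideal.ofList rs).spanFinrank ≤ rs.length := by
      have hfin : {x | x ∈ rs}.Finite := rs.finite_toSet
      refine (Submodule.spanFinrank_span_le_ncard_of_finite hfin).trans ?_
      rw [show {x | x ∈ rs} = (rs.toFinset : Set R) by ext; simp, Set.ncard_coe_finset]
      exact List.toFinset_card_le rs
    exact_mod_cast h1
  · intro h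
    obtain ⟨s, hcard, hspan⟩ := (IsNoetherian.noetherian I).exists_span_finset_card_eq_spanFinrank
    have hof : Ideal.ofList s.toList = I := by
      rw [← hspan, Ideal.ofList, Ideal.span]; congr 1; ext; simp
    refine ⟨s.toList, hof, (IsLocalRing.isRegular_iff_isWeaklyRegular_of_subset_maximalIdeal ?_).mpr ?_⟩
    · intro r hr
      exact le_maximalIdeal hI (hof.le (Ideal.subset_span hr))
    · refine CotTLib.isWeaklyRegular_of_dim _ (by rwa [hof]) ?_
      rw [hof, Finset.length_toList, hcard]
      refine le_antisymm h ?_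
      refine (ringKrullDim_le_ringKrullDim_quotient_add_spanFinrank I
        ((le_maximalIdeal hI).trans_eq (IsLocalRing.ringJacobson_eq_maximalIdeal R).symm)).trans ?_
      rw [add_comm]

/-- A regular system of parameters. -/
theorem exists_param : ∃ (n : ℕ) (x : Fin n → R), (maximalIdeal R).spanFinrank = n ∧
    Ideal.span (Set.range x) = maximalIdeal R ∧ IsWeaklyRegular R (List.ofFn x) := by
  classical
  obtain ⟨s, hcard, hspan⟩ := (IsNoetherian.noetherian (maximalIdeal R)).exists_span_finset_card_eq_spanFinrank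
  let x : Fin s.card → R := fun i => (s.equivFin.symm i : R)
  have hr : Set.range x = (s : Set R) := by
    ext y
    exact ⟨fun ⟨i, hi⟩ => hi ▸ (s.equivFin.symm i).2, fun hy => ⟨s.equivFin ⟨y, hy⟩, by simp [x]⟩⟩
  have hsp : Ideal.span (Set.range x) = maximalIdeal R := by rw [hr]; exact hspan
  have hof : Ideal.ofList (List.ofFn x) = maximalIdeal R := by
    rw [← hsp, Ideal.ofList]; congr 1; ext y; simp [List.mem_ofFn]
  refine ⟨s.card, x, hcard.symm, hsp, CotTLib.isWeaklyRegular_of_dim _ ?_ ?_⟩
  · rw [hof]; exact (maximalIdeal.isMaximal R).ne_top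
  · rw [hof, List.length_ofFn, hcard]
    have h0 : ringKrullDim (R ⧸ maximalIdeal R) = 0 :=
       ringKrullDim_eq_zero_of_isField
        ((Ideal.Quotient.maximal_ideal_iff_isField_quotient _).1 (maximalIdeal.isMaximal R))
    rw [h0, add_zero]
    exact IsRegularLocalRing.spanFinrank_maximalIdeal

end Regular

/-- Finitely supported functions into a ring form a group (not found by unification). -/
local instance finsuppAddCommGroup {ι : Type*} {A : Type*} [CommRing A] : AddCommGroup (ι →₀ A) :=
  Finsupp.instAddCommGroup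

section Koszul

variable {A : Type u} [CommRing A] {M N : Type u} [AddCommGroup M] [Module A M] [AddCommGroup N] [Module A N]

/-- Koszul boundaries of a linear functional. -/
def bd (φ : M →ₗ[A] A) : Submodule A M :=
  Submodule.span A {y | ∃ a b : M, y = φ a • b - φ b • a}

/-- Length of the first Koszul homology of a linear functional. -/
def hlen (φ : M →ₗ[A] A) : ℕ∞ :=
  Module.length A (LinearMap.ker φ ⧸ (bd φ).comap (LinearMap.ker φ).subtype)

theorem mem_bd (φ : M →ₗ[A] A) (a b : M) : φ a • b - φ b • a ∈ bd φ := Submodule.subset_span ⟨a, b, rfl⟩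

theorem bd_le_ker (φ : M →ₗ[A] A) : bd φ ≤ LinearMap.ker φ := by
  refine Submodule.span_le.2 ?_
  rintro y ⟨a, b, rfl⟩
  simp [mul_comm]

theorem map_bd {M' : Type u} [AddCommGroup M'] [Module A M'] (φ : M →ₗ[A] A) (e : M' ≃ₗ[A] M) :
    (bd (φ ∘ₗ e.toLinearMap)).map e.toLinearMap = bd φ := by
  rw [bd, Submodule.map_span, bd]
  congr 1
  ext y
  constructor
  · rintro ⟨z, ⟨a, b, rfl⟩, rfl⟩
    exact ⟨e a, e b, by simp⟩
  · rintro ⟨a, b, rfl⟩
    exact ⟨_, ⟨e.symm a, e.symm b, rfl⟩, by simp⟩

theorem hlen_comp_equiv {M' : Type u} [AddCommGroup M'] [Module A M'] (φ : M →ₗ[A] A) (e : M' ≃ₗ[A] M) :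
    hlen (φ ∘ₗ e.toLinearMap) = hlen φ := by
  have hk : (LinearMap.ker (φ ∘ₗ e.toLinearMap)).map e.toLinearMap = LinearMap.ker φ := by
    rw [LinearMap.ker_comp, Submodule.map_comap_eq_of_surjective e.surjective]
  let e' : LinearMap.ker (φ ∘ₗ e.toLinearMap) ≃ₗ[A] LinearMap.ker φ := e.ofSubmodules _ _ hk
  refine (Submodule.Quotient.equiv _ _ e' ?_).length_eq
  ext z
  constructor
  · rintro ⟨w, hw, rfl⟩
    rw [Submodule.mem_comap, ← map_bd φ e]
    exact Submodule.mem_map_of_mem hw
  · intro hz
    rw [Submodule.mem_comap, ← map_bd φ e] at hz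
    obtain ⟨w, hw, hwz⟩ := hz
    have hwk : w ∈ LinearMap.ker (φ ∘ₗ e.toLinearMap) := bd_le_ker _ hw
    exact ⟨⟨w, hwk⟩, hw, Subtype.ext hwz⟩

/-- Padding a functional by zero adds `length (N / range φ • N)` to the Koszul homology. -/
theorem hlen_fst {ι : Type u} [Finite ι] (φ : M →ₗ[A] A) :
    hlen (φ ∘ₗ LinearMap.fst A M (ι →₀ A)) =
      hlen φ + ENat.card ι * Module.length A (A ⧸ LinearMap.range φ) := by
  classical
  let Φ := φ ∘ₗ LinearMap.fst A M (ι →₀ A)
  let B := (bd φ).comap (LinearMap.ker φ).subtype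
  let p1 : LinearMap.ker Φ →ₗ[A] LinearMap.ker φ :=
    ((LinearMap.fst A M (ι →₀ A)).comp (LinearMap.ker Φ).subtype).codRestrict _ fun z => z.2
  let p2 : LinearMap.ker Φ →ₗ[A] (ι →₀ (A ⧸ LinearMap.range φ)) :=
    (Finsupp.mapRange.linearMap (LinearMap.range φ).mkQ).comp
      ((LinearMap.snd A M (ι →₀ A)).comp (LinearMap.ker Φ).subtype)
  let g := (B.mkQ ∘ₗ p1).prod p2
  have hsurj : Function.Surjective g := by
    rintro ⟨h, t⟩
    obtain ⟨a, rfl⟩ := B.mkQ_surjective h
    obtain ⟨b, hb⟩ := Finsupp.mapRange_surjective (LinearMap.range φ).mkQ (map_zero _)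
      (LinearMap.range φ).mkQ_surjective t
    exact ⟨⟨((a : M), b), a.2⟩, Prod.ext rfl hb⟩
  have hker : LinearMap.ker g = (bd Φ).comap (LinearMap.ker Φ).subtype := by
    apply le_antisymm
    · rintro ⟨⟨a, b⟩, hab⟩ hz
      rw [LinearMap.mem_ker] at hz
      have h1 : a ∈ bd φ := by
        have := congrArg Prod.fst hz
        exact (Submodule.Quotient.mk_eq_zero (M := LinearMap.ker φ) B (x := p1 ⟨(a, b), hab⟩)).1 this
      have h2 : ∀ i, b i ∈ LinearMap.range φ := fun i => by
        have := DFunLike.congr_fun (congrArg Prod.snd hz) i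
        exact (Submodule.Quotient.mk_eq_zero _).1 this
      rw [Submodule.mem_comap]
      change (a, b) ∈ bd Φ
      have h3 : (a, (0 : ι →₀ A)) ∈ bd Φ := by
        have : bd φ ≤ (bd Φ).comap (LinearMap.inl A M (ι →₀ A)) := by
          refine Submodule.span_le.2 ?_
          rintro y ⟨c, d, rfl⟩
          have := mem_bd Φ (c, 0) (d, 0)
          simpa [Φ] using this
        exact this h1
      have h4 : ((0 : M), b) ∈ bd Φ := by
        rw [← Finsupp.sum_single b, Finsupp.sum]
        have : ((0 : M), ∑ i ∈ b.support, Finsupp.single i (b i)) =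
            ∑ i ∈ b.support, ((0 : M), Finsupp.single i (b i)) := by
          ext <;> simp [Prod.fst_sum, Prod.snd_sum]
        rw [this]
        refine sum_mem fun i _ => ?_
        obtain ⟨c, hc⟩ := h2 i
        have := mem_bd Φ (c, 0) (0, Finsupp.single i (1 : A))
        simpa [Φ, hc] using this
      simpa using add_mem h3 h4
    · intro z hz
      rw [Submodule.mem_comap] at hz
      have key : bd Φ ≤ Submodule.prod (bd φ)
          (LinearMap.ker (Finsupp.mapRange.linearMap (α := ι) (LinearMap.range φ).mkQ)) := by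
        refine Submodule.span_le.2 ?_
        rintro y ⟨⟨a, c⟩, ⟨b, d⟩, rfl⟩
        refine ⟨by simpa [Φ] using mem_bd φ a b, ?_⟩
        rw [SetLike.mem_coe, LinearMap.mem_ker]
        ext i
        simp only [Prod.snd_sub, Prod.smul_snd, Φ, LinearMap.comp_apply, LinearMap.fst_apply]
        rw [Finsupp.mapRange.linearMap_apply, Finsupp.mapRange_apply, Finsupp.zero_apply, Submodule.mkQ_apply,
          Submodule.Quotient.mk_eq_zero]
        simp only [Finsupp.sub_apply, Finsupp.smul_apply]
        refine sub_mem ?_ ?_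
        · rw [smul_eq_mul, mul_comm, ← smul_eq_mul]
          exact Submodule.smul_mem _ _ ⟨a, rfl⟩
        · rw [smul_eq_mul, mul_comm, ← smul_eq_mul]
          exact Submodule.smul_mem _ _ ⟨b, rfl⟩
      obtain ⟨h1, h2⟩ := key hz
      rw [LinearMap.mem_ker]
      exact Prod.ext ((Submodule.Quotient.mk_eq_zero _).2 h1) h2
  have eqn := ((Submodule.quotEquivOfEq _ _ hker.symm).trans
    (LinearMap.quotKerEquivOfSurjective g hsurj)).length_eq
  rw [Module.length_prod, Module.length_finsupp] at eqn
  exact eqn

end Koszul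

section Presentation

variable {R A : Type u} [CommRing R] [IsRegularLocalRing R] [CommRing A] [IsLocalRing A]

/-- The Koszul homology of the images of a regular system of parameters is `I / 𝔪 I`. -/
theorem hlen_param (f : R →+* A) (hf : Function.Surjective f) {n : ℕ} (x : Fin n → R)
    (hx : Ideal.span (Set.range x) = maximalIdeal R) (hw : IsWeaklyRegular R (List.ofFn x)) :
    hlen (Finsupp.linearCombination A (f ∘ x)) = ((RingHom.ker f).spanFinrank : ℕ∞) := by
  classical
  let I : Ideal R := RingHom.ker f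
  letI : Algebra R A := f.toAlgebra
  have hsR : Function.Surjective (algebraMap R A) := hf
  have hIm : I ≤ maximalIdeal R := le_maximalIdeal (RingHom.ker_ne_top f)
  let φR := Finsupp.linearCombination R x
  let φA : (Fin n →₀ A) →ₗ[A] A := Finsupp.linearCombination A (f ∘ x)
  let π : (Fin n →₀ R) →ₗ[R] (Fin n →₀ A) := Finsupp.mapRange.linearMap (Algebra.linearMap R A)
  have hπφ : ∀ a, φA (π a) = f (φR a) := by
    intro a
    induction a using Finsupp.induction_linear with
    | zero => simp
    | add a b ha hb => simp only [map_add, ha, hb]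
    | single i c =>
      simp only [π, φA, φR, Finsupp.mapRange.linearMap_apply, Finsupp.mapRange_single,
        Finsupp.linearCombination_single, smul_eq_mul, map_mul, Function.comp_apply]
      rfl
  have hπs : Function.Surjective π := Finsupp.mapRange_surjective _ (map_zero _) hsR
  have hπk : ∀ a, π a = 0 → ∀ i, a i ∈ I := fun a ha i => DFunLike.congr_fun ha i
  let Zp : Submodule R (Fin n →₀ R) := Submodule.comap φR I
  let H := LinearMap.ker φA ⧸ (bd φA).comap (LinearMap.ker φA).subtype
  let α0 : Zp →ₗ[R] LinearMap.ker φA :=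
    { toFun := fun a => ⟨π a, by
        rw [LinearMap.mem_ker, hπφ]; exact a.2⟩
      map_add' := fun a b => Subtype.ext (map_add π _ _)
      map_smul' := fun c a => Subtype.ext (map_smul π c _) }
  let α : Zp →ₗ[R] H := (((bd φA).comap (LinearMap.ker φA).subtype).mkQ.restrictScalars R).comp α0
  let β : Zp →ₗ[R] (I ⧸ maximalIdeal R • (⊤ : Submodule R I)) :=
    (Submodule.mkQ _).comp (φR.restrict (p := Zp) (q := I) fun _ h => h)
  have hα : Function.Surjective α := by
    intro h
    obtain ⟨z, rfl⟩ := Submodule.mkQ_surjective _ h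
    obtain ⟨a, ha⟩ := hπs z
    have hmem : φR a ∈ I := by
      show f (φR a) = 0
      rw [← hπφ, ha]; exact z.2
    exact ⟨⟨a, hmem⟩, congrArg ((bd φA).comap (LinearMap.ker φA).subtype).mkQ
      (show α0 ⟨a, hmem⟩ = z from Subtype.ext ha)⟩
  have hrange : ∀ i ∈ maximalIdeal R, ∃ a, φR a = i := fun i hi => by
    rw [← hx, Ideal.span, ← Finsupp.range_linearCombination] at hi
    exact hi
  have hβ : Function.Surjective β := by
    intro h
    obtain ⟨⟨i, hi⟩, rfl⟩ := Submodule.mkQ_surjective _ h
    obtain ⟨a, ha⟩ := hrange i (hIm hi)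
    exact ⟨⟨a, show φR a ∈ I from ha.symm ▸ hi⟩,
      congrArg (maximalIdeal R • (⊤ : Submodule R I)).mkQ (Subtype.ext ha)⟩
  have hmem : ∀ z : I, z ∈ maximalIdeal R • (⊤ : Submodule R I) ↔ (z : R) ∈ maximalIdeal R • I := fun z => by
    have h : (maximalIdeal R • (⊤ : Submodule R I)).map I.subtype = maximalIdeal R • I := by
      rw [Submodule.map_smul'', Submodule.map_top, Submodule.range_subtype]
    rw [← h, Submodule.mem_map]
    exact ⟨fun hz => ⟨z, hz, rfl⟩, fun ⟨w, hw, hwz⟩ => Subtype.ext hwz ▸ hw⟩
  have htriv : ∀ z ∈ bd φA, ∃ c ∈ CotTLib.triv x, π c = z := by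
    intro z hz
    induction hz using Submodule.span_induction with
    | mem z hz =>
      obtain ⟨a, b, rfl⟩ := hz
      obtain ⟨p, rfl⟩ := hπs a
      obtain ⟨q, rfl⟩ := hπs b
      refine ⟨φR p • q - φR q • p, Submodule.subset_span ⟨p, q, rfl⟩, ?_⟩
      rw [map_sub, map_smul, map_smul, hπφ, hπφ]
      rfl
    | zero => exact ⟨0, zero_mem _, map_zero π⟩
    | add a b _ _ ha hb =>
      obtain ⟨c, hc, rfl⟩ := ha
      obtain ⟨d, hd, rfl⟩ := hb
      exact ⟨c + d, add_mem hc hd, map_add π c d⟩
    | smul r a _ ha =>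
      obtain ⟨c, hc, rfl⟩ := ha
      obtain ⟨r, rfl⟩ := hsR r
      exact ⟨r • c, Submodule.smul_mem _ _ hc, by rw [map_smul, algebraMap_smul]⟩
  have hker : LinearMap.ker α = LinearMap.ker β := by
    ext a
    show Submodule.Quotient.mk (α0 a) = 0 ↔ Submodule.Quotient.mk _ = 0
    rw [Submodule.Quotient.mk_eq_zero, Submodule.Quotient.mk_eq_zero, hmem, Submodule.mem_comap]
    show π a ∈ bd φA ↔ φR a ∈ maximalIdeal R • I
    constructor
    · intro ha
      obtain ⟨c, hc, hca⟩ := htriv _ ha
      have h1 : φR (a - c) = φR a := by rw [map_sub, CotTLib.linearCombination_of_mem_triv hc, sub_zero]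
      rw [← h1]
      have h2 := hπk ((a : Fin n →₀ R) - c) (by rw [map_sub, hca, sub_self])
      rw [show φR ((a : Fin n →₀ R) - c) = _ from Finsupp.linearCombination_apply R _, Finsupp.sum]
      refine sum_mem fun i _ => ?_
      rw [smul_eq_mul, smul_eq_mul, mul_comm (((a : Fin n →₀ R) - c) i)]
      exact Ideal.mul_mem_mul (hx.le (Ideal.subset_span ⟨i, rfl⟩)) (h2 i)
    · intro ha
      rw [smul_eq_mul, Ideal.mul_comm, ← smul_eq_mul, ← hx, Ideal.span,
        Submodule.mem_ideal_smul_span_iff_exists_sum] at ha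
      obtain ⟨c, hc, hca⟩ := ha
      have hc' : φR c = φR a := by rw [← hca]; exact Finsupp.linearCombination_apply R c
      have h1 := CotTLib.mem_triv_of_isWeaklyRegular x hw ((a : Fin n →₀ R) - c) (by
        show φR _ = 0
        rw [map_sub, hc', sub_self])
      have h2 : π ((a : Fin n →₀ R) - c) = π a := by
        have : π c = 0 := by
          ext i
          exact hc i
        rw [map_sub, this, sub_zero]
      rw [← h2]
      have : CotTLib.triv x ≤ ((bd φA).restrictScalars R).comap π := by
        refine Submodule.span_le.2 ?_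
        rintro y ⟨p, q, rfl⟩
        show π _ ∈ bd φA
        rw [map_sub, map_smul, map_smul]
        have := mem_bd φA (π p) (π q)
        rw [hπφ, hπφ] at this
        exact this
      exact this h1
  have e : H ≃ₗ[R] (I ⧸ maximalIdeal R • (⊤ : Submodule R I)) :=
    ((α.quotKerEquivOfSurjective hα).symm.trans (Submodule.quotEquivOfEq _ _ hker)).trans
      (β.quotKerEquivOfSurjective hβ)
  show Module.length A H = (I.spanFinrank : ℕ∞)
  rw [← Module.length_eq_of_surjective (R := A) (S := R) (M := H) hsR, e.length_eq,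
    spanFinrank_eq_finrank_quotient I (IsNoetherian.noetherian I)]
  letI : Field (R ⧸ maximalIdeal R) := Ideal.Quotient.field _
  rw [Module.length_eq_of_surjective (R := R ⧸ maximalIdeal R) (S := R) Ideal.Quotient.mk_surjective,
    Module.length_eq_finrank]

theorem length_residue : Module.length A (A ⧸ maximalIdeal A) = 1 := by
  letI : Field (A ⧸ maximalIdeal A) := Ideal.Quotient.field _
  rw [Module.length_eq_of_surjective (R := A ⧸ maximalIdeal A) (S := A) Ideal.Quotient.mk_surjective,
    Module.length_eq_finrank, Module.finrank_self]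
  rfl

variable {S : Type u} [CommRing S] [IsRegularLocalRing S]

/-- `μ(ker f) - dim R` is independent of the presentation. -/
theorem spanFinrank_ker_add (f : R →+* A) (hf : Function.Surjective f) (g : S →+* A) (hg : Function.Surjective g) :
    (RingHom.ker f).spanFinrank + (maximalIdeal S).spanFinrank =
      (RingHom.ker g).spanFinrank + (maximalIdeal R).spanFinrank := by
  classical
  obtain ⟨n, x, hn, hx, hxw⟩ := exists_param (R := R)
  obtain ⟨m, y, hm, hy, hyw⟩ := exists_param (R := S)
  let φ := Finsupp.linearCombination A (fun i : ULift.{u} (Fin n) => f (x i.down))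
  let ψ := Finsupp.linearCombination A (fun i : ULift.{u} (Fin m) => g (y i.down))
  have hrφ : LinearMap.range φ = maximalIdeal A := by
    rw [Finsupp.range_linearCombination, ← IsLocalRing.map_maximalIdeal_of_surjective f hf, ← hx, Ideal.map_span,
      ← Set.range_comp]
    exact congrArg _ (Function.Surjective.range_comp ULift.down_surjective (f ∘ x))
  have hrψ : LinearMap.range ψ = maximalIdeal A := by
    rw [Finsupp.range_linearCombination, ← IsLocalRing.map_maximalIdeal_of_surjective g hg, ← hy, Ideal.map_span,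
      ← Set.range_comp]
    exact congrArg _ (Function.Surjective.range_comp ULift.down_surjective (g ∘ y))
  choose C hC using fun i : ULift.{u} (Fin m) =>
    (show g (y i.down) ∈ LinearMap.range φ by
      rw [hrφ, ← hrψ]; exact ⟨Finsupp.single i 1, by simp [ψ]⟩)
  choose D hD using fun i : ULift.{u} (Fin n) =>
    (show f (x i.down) ∈ LinearMap.range ψ by
      rw [hrψ, ← hrφ]; exact ⟨Finsupp.single i 1, by simp [φ]⟩)
  let γ := Finsupp.linearCombination A C
  let δ := Finsupp.linearCombination A D
  have hγ : φ ∘ₗ γ = ψ := Finsupp.lhom_ext' fun i => LinearMap.ext_ring (by simp [γ, ψ, hC])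
  have hδ : ψ ∘ₗ δ = φ := Finsupp.lhom_ext' fun i => LinearMap.ext_ring (by simp [δ, φ, hD])
  let e : ((ULift.{u} (Fin n) →₀ A) × (ULift.{u} (Fin m) →₀ A)) ≃ₗ[A]
      ((ULift.{u} (Fin n) →₀ A) × (ULift.{u} (Fin m) →₀ A)) :=
    LinearEquiv.ofLinearMap
      ((LinearMap.fst A _ _ + γ ∘ₗ LinearMap.snd A _ _).prod (LinearMap.snd A _ _))
      ((LinearMap.fst A _ _ - γ ∘ₗ LinearMap.snd A _ _).prod (LinearMap.snd A _ _))
      (LinearMap.ext fun z => by simp) (LinearMap.ext fun z => by simp)
  let e' : ((ULift.{u} (Fin n) →₀ A) × (ULift.{u} (Fin m) →₀ A)) ≃ₗ[A]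
      ((ULift.{u} (Fin m) →₀ A) × (ULift.{u} (Fin n) →₀ A)) :=
    LinearEquiv.ofLinearMap
      ((LinearMap.snd A _ _ + δ ∘ₗ LinearMap.fst A _ _).prod (LinearMap.fst A _ _))
      ((LinearMap.snd A _ _).prod (LinearMap.fst A _ _ - δ ∘ₗ LinearMap.snd A _ _))
      (LinearMap.ext fun z => by simp) (LinearMap.ext fun z => by simp)
  have h1 : (φ ∘ₗ LinearMap.fst A _ _) ∘ₗ e.toLinearMap = φ.coprod ψ := by
    refine LinearMap.ext fun z => ?_
    simp [e, ← hγ]
  have h2 : (ψ ∘ₗ LinearMap.fst A _ _) ∘ₗ e'.toLinearMap = φ.coprod ψ := by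
    refine LinearMap.ext fun z => ?_
    simp [e', ← hδ, add_comm]
  have key : hlen φ + ENat.card (ULift.{u} (Fin m)) * Module.length A (A ⧸ LinearMap.range φ) =
      hlen ψ + ENat.card (ULift.{u} (Fin n)) * Module.length A (A ⧸ LinearMap.range ψ) := by
    rw [← hlen_fst, ← hlen_fst, ← hlen_comp_equiv _ e, ← hlen_comp_equiv _ e', h1, h2]
  have hφ : hlen φ = ((RingHom.ker f).spanFinrank : ℕ∞) := by
    rw [← hlen_param f hf x hx hxw, ← hlen_comp_equiv (Finsupp.linearCombination A (f ∘ x))
      (Finsupp.domLCongr (Equiv.ulift.{u} (α := Fin n)))]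
    congr 1
    exact Finsupp.lhom_ext' fun i => LinearMap.ext_ring (by simp [φ, Finsupp.domLCongr_apply])
  have hψ : hlen ψ = ((RingHom.ker g).spanFinrank : ℕ∞) := by
    rw [← hlen_param g hg y hy hyw, ← hlen_comp_equiv (Finsupp.linearCombination A (g ∘ y))
      (Finsupp.domLCongr (Equiv.ulift.{u} (α := Fin m)))]
    congr 1
    exact Finsupp.lhom_ext' fun i => LinearMap.ext_ring (by simp [ψ, Finsupp.domLCongr_apply])
  rw [hrφ, hrψ, length_residue, hφ, hψ, mul_one, mul_one, ENat.card_eq_coe_fintype_card,
    ENat.card_eq_coe_fintype_card, Fintype.card_ulift, Fintype.card_ulift, Fintype.card_fin, Fintype.card_fin] at key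
  rw [hn, hm]
  exact_mod_cast key

/-- Whether the kernel is generated by a regular sequence is independent of the presentation. -/
theorem exists_regular_ker_iff (f : R →+* A) (hf : Function.Surjective f) (g : S →+* A)
    (hg : Function.Surjective g) :
    (∃ rs : List R, Ideal.ofList rs = RingHom.ker f ∧ IsRegular R rs) ↔
      ∃ rs : List S, Ideal.ofList rs = RingHom.ker g ∧ IsRegular S rs := by
  have hR : ringKrullDim (R ⧸ RingHom.ker f) = ringKrullDim A :=
    ringKrullDim_eq_of_ringEquiv (RingHom.quotientKerEquivOfSurjective hf)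
  have hS : ringKrullDim (S ⧸ RingHom.ker g) = ringKrullDim A :=
    ringKrullDim_eq_of_ringEquiv (RingHom.quotientKerEquivOfSurjective hg)
  rw [exists_regular_iff _ (RingHom.ker_ne_top f), exists_regular_iff _ (RingHom.ker_ne_top g), hR, hS,
    ← IsRegularLocalRing.spanFinrank_maximalIdeal (R := R), ← IsRegularLocalRing.spanFinrank_maximalIdeal (R := S)]
  have h := spanFinrank_ker_add f hf g hg
  haveI : IsNoetherianRing A := isNoetherianRing_of_surjective R A f hf
  obtain ⟨d, hd⟩ : ∃ d : ℕ, ringKrullDim A = d := Groth.Agent.CAlgReg.exists_dim (R := A)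
  rw [hd]
  norm_cast
  omega

end Presentation

end Groth.Agent.CIPres

end
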