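import Groth.Agent.CIPres.Basic
import Groth.Prelude.Def_Pi1
import Groth.Agent.Hensel.HensCatenary
import Groth.Agent.CAlgCompl.Local

/-!
# Complete intersections and presentations
-/

set_option autoImplicit false
set_option linter.style.haveILetI false

noncomputable section

universe u

open IsLocalRing RingTheory.Sequence TensorProduct

namespace Groth.Agent.CIPres

/-- The number of generators of an ideal does not change along a flat local map. -/
theorem spanFinrank_map_eq {R S : Type u} [CommRing R] [CommRing S] [IsLocalRing R] [IsLocalRing S]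
    [IsNoetherianRing R] [IsNoetherianRing S] [Algebra R S] [Module.Flat R S] [IsLocalHom (algebraMap R S)]
    (I : Ideal R) : (I.map (algebraMap R S)).spanFinrank = I.spanFinrank := by
  let φ : TensorProduct R S I →ₗ[S] S :=
    (TensorProduct.AlgebraTensorModule.rid R S S).toLinearMap ∘ₗ I.subtype.baseChange S
  have hφ : ∀ (s : S) (x : I), φ (s ⊗ₜ[R] x) = s * algebraMap R S x := fun s x => by
    simp [φ, Algebra.smul_def, mul_comm]
  have hinj : Function.Injective φ :=
    (TensorProduct.AlgebraTensorModule.rid R S S).injective.comp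
      (Module.Flat.lTensor_preserves_injective_linearMap (M := S) I.subtype I.injective_subtype)
  have hrange : LinearMap.range φ = I.map (algebraMap R S) := by
    apply le_antisymm
    · rintro _ ⟨t, rfl⟩
      induction t using TensorProduct.induction_on with
      | zero => rw [map_zero]; exact zero_mem _
      | tmul s x => rw [hφ]; exact Ideal.mul_mem_left _ _ (Ideal.mem_map_of_mem _ x.2)
      | add a b ha hb => rw [map_add]; exact add_mem ha hb
    · exact Ideal.map_le_iff_le_comap.2 fun x hx => ⟨1 ⊗ₜ[R] ⟨x, hx⟩, by rw [hφ, one_mul]⟩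
  let e : TensorProduct R S I ≃ₗ[S] (I.map (algebraMap R S)) :=
    (LinearEquiv.ofInjective φ hinj).trans (LinearEquiv.ofEq _ _ hrange)
  have hI := TensorProduct.spanFinrank_top_eq_of_residueField (R := R) I (IsNoetherian.noetherian I)
  have hJ := TensorProduct.spanFinrank_top_eq_of_residueField (R := S) (I.map (algebraMap R S))
    (IsNoetherian.noetherian _)
  rw [← hI, ← hJ, ← Module.finrank_eq_spanFinrank_of_free, ← Module.finrank_eq_spanFinrank_of_free]
  rw [← (LinearEquiv.baseChange S (ResidueField S) _ _ e).finrank_eq,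
    (TensorProduct.AlgebraTensorModule.cancelBaseChange R S (ResidueField S) (ResidueField S) I).finrank_eq,
    ← (TensorProduct.AlgebraTensorModule.cancelBaseChange R (ResidueField R) (ResidueField S) (ResidueField S)
      I).finrank_eq, Module.finrank_baseChange]

/-- For a complete local ring, any presentation detects complete intersections. -/
theorem isCI_iff_of_surjective {A R : Type u} [CommRing A] [CommRing R] [IsLocalRing A]
    [IsRegularLocalRing R] (f : R →+* AdicCompletion (maximalIdeal A) A) (hf : Function.Surjective f)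
    [IsLocalRing (AdicCompletion (maximalIdeal A) A)] :
    Pi1.IsCompleteIntersection A ↔
      ∃ rs : List R, Ideal.ofList rs = RingHom.ker f ∧ IsRegular R rs := by
  constructor
  · rintro ⟨B, _, _, rs, -, hreg, ⟨e⟩⟩
    let g : B →+* AdicCompletion (maximalIdeal A) A := e.symm.toRingHom.comp (Ideal.Quotient.mk _)
    have hg : Function.Surjective g := e.symm.surjective.comp Ideal.Quotient.mk_surjective
    refine (exists_regular_ker_iff g hg f hf).1 ⟨rs, ?_, hreg⟩
    rw [RingHom.ker_comp_of_injective _ e.symm.injective, Ideal.mk_ker]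
  · rintro ⟨rs, hker, hreg⟩
    refine ⟨R, inferInstance, inferInstance, rs, fun r hr => ?_, hreg, ⟨?_⟩⟩
    · exact le_maximalIdeal (RingHom.ker_ne_top f) (hker.le (Ideal.subset_span hr))
    · exact (RingHom.quotientKerEquivOfSurjective hf).symm.trans (Ideal.quotEquivOfEq hker.symm)

/-- A quotient of a regular local ring is a complete intersection iff the ideal is generated by a regular
sequence. -/
theorem isCI_quotient_iff {R : Type u} [CommRing R] [IsRegularLocalRing R] (I : Ideal R) (hI : I ≠ ⊤)
    [IsLocalRing (R ⧸ I)] :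
    Pi1.IsCompleteIntersection (R ⧸ I) ↔ ∃ rs : List R, Ideal.ofList rs = I ∧ IsRegular R rs := by
  haveI : Nontrivial (R ⧸ I) := Ideal.Quotient.nontrivial_iff.mpr hI
  haveI : IsRegularLocalRing (EGA4.Cpl R) :=
    (CAlgCompl.isRegularLocalRing_adicCompletion_iff R).1 inferInstance
  haveI : Module.Flat R (EGA4.Cpl R) := AdicCompletion.flat_of_isNoetherian _
  haveI : IsLocalHom (algebraMap R (EGA4.Cpl R)) :=
    inferInstanceAs (IsLocalHom (algebraMap R (AdicCompletion (maximalIdeal R) R)))
  haveI : IsNoetherianRing (EGA4.Cpl R) := inferInstance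
  obtain ⟨π, hπ, hker⟩ := Hensel.exists_cpl_quotient R I
  haveI : IsLocalRing (EGA4.Cpl (R ⧸ I)) := IsLocalRing.of_surjective' π hπ
  haveI : IsLocalRing (AdicCompletion (maximalIdeal (R ⧸ I)) (R ⧸ I)) := ‹IsLocalRing (EGA4.Cpl (R ⧸ I))›
  rw [isCI_iff_of_surjective π hπ, exists_regular_iff _ (RingHom.ker_ne_top π), exists_regular_iff _ hI, hker]
  have h1 : ringKrullDim (EGA4.Cpl R ⧸ I.map (algebraMap R (EGA4.Cpl R))) = ringKrullDim (R ⧸ I) := by
    rw [← hker, ringKrullDim_eq_of_ringEquiv (RingHom.quotientKerEquivOfSurjective hπ)]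
    exact CAlgCompl.ringKrullDim_adicCompletion (R ⧸ I)
  have h2 : ringKrullDim (EGA4.Cpl R) = ringKrullDim R := CAlgCompl.ringKrullDim_adicCompletion R
  have h3 : (I.map (algebraMap R (EGA4.Cpl R))).spanFinrank = I.spanFinrank :=
    spanFinrank_map_eq I
  rw [h1, h2, h3]

end Groth.Agent.CIPres

end
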