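import Groth.Agent.CIPres.Scheme
import Groth.Agent.GrpSyntomic.Gorenstein
import Groth.Agent.GorenBasic.RingOps
import Groth.Agent.LCIPres.RegCancel

/-!
# Local complete intersections over Gorenstein rings
-/

set_option autoImplicit false
set_option linter.style.haveILetI false

noncomputable section

universe u

open IsLocalRing RingTheory.Sequence MvPolynomial

namespace Groth.Agent.CIPres

theorem isGorensteinRing_mvPolynomial (A : Type u) [CommRing A] [hA : LocCoh.IsGorensteinRing A] :
    ∀ n : ℕ, LocCoh.IsGorensteinRing (MvPolynomial (Fin n) A)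
  | 0 => GorenBasic.isGorensteinRing_of_ringEquiv (MvPolynomial.isEmptyRingEquiv A (Fin 0)).symm
  | n + 1 => by
    haveI := isGorensteinRing_mvPolynomial A n
    haveI := GorenBasic.isGorensteinRing_polynomial (R := MvPolynomial (Fin n) A)
    exact GorenBasic.isGorensteinRing_of_ringEquiv (MvPolynomial.finSuccEquiv A n).toRingEquiv.symm

theorem isGorensteinRing_of_isLCI (A B : Type u) [CommRing A] [CommRing B] [Algebra A B]
    [hA : LocCoh.IsGorensteinRing A] (h : LCI.IsLCI A B) : LocCoh.IsGorensteinRing B := by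
  obtain ⟨hft, n, φ, hφ, hI⟩ := h
  haveI := isGorensteinRing_mvPolynomial A n
  haveI : IsNoetherianRing B := isNoetherianRing_of_surjective (MvPolynomial (Fin n) A) B φ.toRingHom hφ
  refine ⟨fun p _ => ?_⟩
  obtain ⟨χ, hχ, -, hker⟩ := LCIPres.exists_localHom φ.toRingHom hφ p
  have hIq : RingHom.ker φ.toRingHom ≤ p.comap φ.toRingHom := Ideal.comap_mono bot_le
  obtain ⟨r, y, hy, hspan⟩ := LCIPres.exists_exact_atPrime hI (p.comap φ.toRingHom) hIq
  have hm : ∀ i, y i ∈ maximalIdeal (Localization.AtPrime (p.comap φ.toRingHom)) := fun i => by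
    rw [← Localization.AtPrime.map_eq_maximalIdeal]
    exact Ideal.map_mono hIq (hspan.le (Ideal.subset_span ⟨i, rfl⟩))
  have hw := LCIPres.isWeaklyRegular_reverse_of_isExact r y hm hy
  have hG := GrpSyntomic.gorenstein_quotient_ofList _ (Localization.AtPrime (p.comap φ.toRingHom))
    (List.ofFn y).reverse rfl (LocCoh.IsGorensteinRing.isGorensteinLocalRing_localization _)
    (fun z hz => by
      obtain ⟨i, rfl⟩ := List.mem_ofFn.1 (List.mem_reverse.1 hz)
      exact hm i) hw
  have he : Ideal.ofList (List.ofFn y).reverse = RingHom.ker χ := by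
    rw [hker, ← hspan, Ideal.ofList]; congr 1; ext z
    exact List.mem_reverse.trans List.mem_ofFn
  exact GorenSG.gorenstein_of_ringEquiv
    (RingHom.quotientKerEquivOfSurjective hχ).symm
    (GorenSG.gorenstein_of_ringEquiv (Ideal.quotEquivOfEq he.symm) hG)

end Groth.Agent.CIPres

end
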