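import Groth.Agent.CIPres.Completion
import Groth.Agent.LCIPres.FibreCrit
import Groth.Agent.LCIPres.RegCancel
import Groth.Agent.Hensel.CplEquiv

/-!
# The complete intersection locus of a quotient of a regular ring
-/

set_option autoImplicit false
set_option linter.style.haveILetI false

noncomputable section

universe u

open IsLocalRing RingTheory.Sequence

namespace Groth.Agent.CIPres

theorem isCI_of_ringEquiv {A A' : Type u} [CommRing A] [IsLocalRing A] [CommRing A'] [IsLocalRing A'] (e : A ≃+* A')
    (h : Pi1.IsCompleteIntersection A) : Pi1.IsCompleteIntersection A' := by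
  obtain ⟨B, hB, hB', rs, hm, hreg, ⟨u⟩⟩ := h
  letI : Algebra A A' := e.toRingHom.toAlgebra
  have hmax : (maximalIdeal A).map (algebraMap A A') = maximalIdeal A' :=
    IsLocalRing.map_maximalIdeal_of_surjective e.toRingHom e.surjective
  obtain ⟨E, -⟩ := Hensel.exists_completion_equiv (R := A) (S := A') (maximalIdeal A) (maximalIdeal A')
    (fun n => by rw [Ideal.map_pow, hmax]) (fun n => by
      constructor
      · refine Ideal.quotientMap_injective' ?_
        exact (Ideal.comap_map_of_bijective _ (show Function.Bijective (algebraMap A A') from e.bijective)).le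
      · exact Ideal.quotientMap_surjective (show Function.Surjective (algebraMap A A') from e.surjective))
  exact ⟨B, hB, hB', rs, hm, hreg, ⟨E.symm.trans u⟩⟩

theorem isCI_iff_of_ringEquiv {A A' : Type u} [CommRing A] [IsLocalRing A] [CommRing A'] [IsLocalRing A']
    (e : A ≃+* A') : Pi1.IsCompleteIntersection A ↔ Pi1.IsCompleteIntersection A' :=
  ⟨isCI_of_ringEquiv e, isCI_of_ringEquiv e.symm⟩

/-- A surjection from a regular local ring detects complete intersections. -/
theorem isCI_iff_ker {R A : Type u} [CommRing R] [IsRegularLocalRing R] [CommRing A] [IsLocalRing A]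
    (f : R →+* A) (hf : Function.Surjective f) :
    Pi1.IsCompleteIntersection A ↔ ∃ rs : List R, Ideal.ofList rs = RingHom.ker f ∧ IsRegular R rs := by
  haveI : IsLocalRing (R ⧸ RingHom.ker f) := (RingHom.quotientKerEquivOfSurjective hf).symm.isLocalRing
  rw [← isCI_iff_of_ringEquiv (RingHom.quotientKerEquivOfSurjective hf)]
  exact isCI_quotient_iff _ (RingHom.ker_ne_top f)

/-- A regular local ring is a complete intersection. -/
theorem isCI_of_regular (R : Type u) [CommRing R] [IsRegularLocalRing R] : Pi1.IsCompleteIntersection R :=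
  (isCI_iff_ker (RingHom.id R) Function.surjective_id).2
    ⟨[], by rw [Ideal.ofList_nil, RingHom.ker_eq_bot_iff_eq_zero _ |>.2 (fun _ h => h)], IsRegular.nil R R⟩

section Locus

variable {B : Type u} [CommRing B] [IsRegularRing B]

theorem isCI_localization_iff (I : Ideal B) (p : Ideal (B ⧸ I)) [p.IsPrime] :
    Pi1.IsCompleteIntersection (Localization.AtPrime p) ↔
      ∃ rs : List (Localization.AtPrime (p.comap (Ideal.Quotient.mk I))),
        Ideal.ofList rs = I.map (algebraMap B _) ∧
          IsRegular (Localization.AtPrime (p.comap (Ideal.Quotient.mk I))) rs := by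
  haveI : IsRegularLocalRing (Localization.AtPrime (p.comap (Ideal.Quotient.mk I))) :=
    IsRegularRing.isRegularLocalRing_localization _
  obtain ⟨χ, hχ, -, hker⟩ := LCIPres.exists_localHom (Ideal.Quotient.mk I) Ideal.Quotient.mk_surjective p
  rw [isCI_iff_ker χ hχ, hker, Ideal.mk_ker]

/-- Nearby primes inherit a regular sequence of generators. -/
theorem exists_basicOpen (I : Ideal B) (p : Ideal (B ⧸ I)) [p.IsPrime]
    (h : Pi1.IsCompleteIntersection (Localization.AtPrime p)) :
    ∃ G : B, Ideal.Quotient.mk I G ∉ p ∧ ∀ (q : Ideal (B ⧸ I)) [q.IsPrime], Ideal.Quotient.mk I G ∉ q →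
      Pi1.IsCompleteIntersection (Localization.AtPrime q) := by
  obtain ⟨rs, hrs, hreg⟩ := (isCI_localization_iff I p).1 h
  have hK : LCIPres.KRAt I (p.comap (Ideal.Quotient.mk I)) :=
    LCIPres.krAt_of_isWeaklyRegular _ rs.get (by rw [List.ofFn_get]; exact hreg.toIsWeaklyRegular)
      (by rw [← hrs, Ideal.ofList]; congr 1; ext z; simp [List.mem_iff_get, eq_comm])
  obtain ⟨G, hG, hdata⟩ := hK
  refine ⟨G, hG, fun q _ hq => ?_⟩
  obtain ⟨r, y, hy, hspan⟩ := LCIPres.exists_exact_of_krAt (I := I) (q.comap (Ideal.Quotient.mk I)) ⟨G, hq, hdata⟩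
  haveI : IsRegularLocalRing (Localization.AtPrime (q.comap (Ideal.Quotient.mk I))) :=
    IsRegularRing.isRegularLocalRing_localization _
  have hIq : I ≤ q.comap (Ideal.Quotient.mk I) := fun z hz => by
    show Ideal.Quotient.mk I z ∈ q
    rw [Ideal.Quotient.eq_zero_iff_mem.2 hz]; exact q.zero_mem
  have hm : ∀ i, y i ∈ maximalIdeal (Localization.AtPrime (q.comap (Ideal.Quotient.mk I))) := fun i => by
    rw [← Localization.AtPrime.map_eq_maximalIdeal]
    exact Ideal.map_mono hIq (hspan.le (Ideal.subset_span ⟨i, rfl⟩))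
  have hw := LCIPres.isWeaklyRegular_reverse_of_isExact r y hm hy
  refine (isCI_localization_iff I q).2 ⟨(List.ofFn y).reverse, ?_, ?_⟩
  · rw [← hspan, Ideal.ofList]; congr 1; ext z; simp [List.mem_ofFn]
  · refine (IsLocalRing.isRegular_iff_isWeaklyRegular_of_subset_maximalIdeal ?_).mpr hw
    intro z hz
    obtain ⟨i, rfl⟩ := List.mem_ofFn.1 (List.mem_reverse.1 hz)
    exact hm i

end Locus

end Groth.Agent.CIPres

end
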