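import Groth.Agent.CIPres.Locus
import Groth.Agent.SyntLCI.Field
import Groth.Agent.SyntLCI.Point
import Groth.Agent.SyntLCI.Mor
import Groth.Agent.SyntLCI.KoszulMor
import Groth.Agent.FlatLocalDepth.FibreStalk
import Groth.Agent.RegLocus.Fiber
import Groth.Prelude.Def_CInt

/-!
# Complete intersection fibres and syntomic points
-/

set_option autoImplicit false
set_option linter.style.haveILetI false

noncomputable section

universe u

open IsLocalRing RingTheory.Sequence AlgebraicGeometry CategoryTheory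

namespace Groth.Agent.CIPres

/-- Over a field, complete intersection points are those with complete intersection completion. -/
theorem isCIOver_iff_isCI (k T : Type u) [Field k] [CommRing T] [Algebra k T] [Algebra.FiniteType k T]
    (q : Ideal T) [q.IsPrime] :
    Synt.IsCIOver k (Localization.AtPrime q) ↔ Pi1.IsCompleteIntersection (Localization.AtPrime q) := by
  obtain ⟨n, φ, hφ⟩ := SyntLCI.exists_pres k T
  obtain ⟨χ, hχ, -, hker⟩ := LCIPres.exists_localHom φ.toRingHom hφ q
  haveI : IsRegularLocalRing (Localization.AtPrime (q.comap φ.toRingHom)) :=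
    IsRegularRing.isRegularLocalRing_localization _
  rw [SyntLCI.isCIOver_atPrime_iff φ hφ q, isCI_iff_ker χ hχ, hker]
  constructor
  · rintro ⟨hne, l, hl, hw⟩
    exact ⟨l, hl, (IsLocalRing.isRegular_iff_isWeaklyRegular_of_subset_maximalIdeal fun r hr =>
      le_maximalIdeal hne (hl.le (Ideal.subset_span hr))).mpr hw⟩
  · rintro ⟨l, hl, hreg⟩
    exact ⟨hker ▸ RingHom.ker_ne_top χ, l, hl, hreg.toIsWeaklyRegular⟩

variable {X S : Scheme.{u}}

/-- The fibre local ring on an affine pair. -/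
theorem fiberStalk_chart (f : X ⟶ S) {U : X.Opens} {V : S.Opens} (hU : IsAffineOpen U) (hV : IsAffineOpen V)
    (e : U ≤ f ⁻¹ᵁ V) {x : X} (hx : x ∈ U) :
    letI := (f.appLE V U e).hom.toAlgebra
    Nonempty (EGA4.FibLocRing Γ(S, V) Γ(X, U) (hU.primeIdealOf ⟨x, hx⟩).asIdeal ≃+* CInt.fiberStalk f x) := by
  letI algUV := (f.appLE V U e).hom.toAlgebra
  obtain ⟨u⟩ := FlatLocalDepth.nonempty_asFiber_stalk_equiv f x
  letI : Algebra Γ(X, U) (X.presheaf.stalk x) := (X.presheaf.germ U x hx).hom.toAlgebra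
  letI : Algebra Γ(S, V) (S.presheaf.stalk (f x)) := (S.presheaf.germ V (f x) (e hx)).hom.toAlgebra
  haveI : IsLocalization.AtPrime (X.presheaf.stalk x) (hU.primeIdealOf ⟨x, hx⟩).asIdeal :=
    hU.isLocalization_stalk ⟨x, hx⟩
  haveI : IsLocalization.AtPrime (S.presheaf.stalk (f x)) (hV.primeIdealOf ⟨f x, e hx⟩).asIdeal :=
    hV.isLocalization_stalk ⟨f x, e hx⟩
  let q := (hU.primeIdealOf ⟨x, hx⟩).asIdeal
  have hp : q.comap (algebraMap Γ(S, V) Γ(X, U)) = (hV.primeIdealOf ⟨f x, e hx⟩).asIdeal :=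
    congrArg PrimeSpectrum.asIdeal (IsAffineOpen.comap_primeIdealOf_appLE V hV U hU e hx)
  let ε := IsLocalization.algEquiv q.primeCompl (Localization.AtPrime q) (X.presheaf.stalk x)
  have hI : ((q.comap (algebraMap Γ(S, V) Γ(X, U))).map (algebraMap Γ(S, V) (Localization.AtPrime q))).map (ε.toRingEquiv : Localization.AtPrime q →+* X.presheaf.stalk x) =
      (maximalIdeal (S.presheaf.stalk (f x))).map (f.stalkMap x).hom := by
    have hm : maximalIdeal (S.presheaf.stalk (f x)) =
        (hV.primeIdealOf ⟨f x, e hx⟩).asIdeal.map (algebraMap Γ(S, V) (S.presheaf.stalk (f x))) :=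
      (IsLocalization.AtPrime.map_eq_maximalIdeal _ _).symm
    rw [hm, hp, Ideal.map_map, Ideal.map_map]
    congr 1
    refine RingHom.ext fun a => ?_
    show ε (algebraMap Γ(S, V) (Localization.AtPrime q) a) = (f.stalkMap x).hom (S.presheaf.germ V (f x) (e hx) a)
    rw [IsScalarTower.algebraMap_apply Γ(S, V) Γ(X, U) (Localization.AtPrime q), AlgEquiv.commutes]
    exact (Scheme.Hom.germ_stalkMap_apply f V x (e hx) a).trans (TopCat.Presheaf.germ_res_apply _ _ _ _ _).symm |>.symm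
  exact ⟨(Ideal.quotientEquiv _ _ ε.toRingEquiv hI.symm).trans u⟩

/-- Complete intersection fibres are detected at syntomic points. -/
theorem isCI_fiberStalk_iff (f : X ⟶ S) [Flat f] [LocallyOfFinitePresentation f] (x : X) :
    Pi1.IsCompleteIntersection (CInt.fiberStalk f x) ↔ Synt.IsSyntomicAt f x := by
  have key : ∀ {U : X.Opens} {V : S.Opens} (hU : IsAffineOpen U) (hV : IsAffineOpen V) (e : U ≤ f ⁻¹ᵁ V) (hx : x ∈ U),
      letI := (f.appLE V U e).hom.toAlgebra
      (Pi1.IsCompleteIntersection (CInt.fiberStalk f x) ↔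
        ∃ g : Γ(X, U), g ∉ (hU.primeIdealOf ⟨x, hx⟩).asIdeal ∧ Synt.IsSyntomic Γ(S, V) (Localization.Away g)) := by
    intro U V hU hV e hx
    letI := (f.appLE V U e).hom.toAlgebra
    haveI : Algebra.FinitePresentation Γ(S, V) Γ(X, U) := f.finitePresentation_appLE hV hU e
    haveI : Module.Flat Γ(S, V) Γ(X, U) := f.flat_appLE hV hU e
    obtain ⟨u⟩ := fiberStalk_chart f hU hV e hx
    let q := (hU.primeIdealOf ⟨x, hx⟩).asIdeal
    let p := q.comap (algebraMap Γ(S, V) Γ(X, U))
    haveI : q.LiesOver p := ⟨rfl⟩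
    let P := PrimeSpectrum.primesOverOrderIsoFiber Γ(S, V) Γ(X, U) p ⟨q, inferInstance, ⟨rfl⟩⟩
    have hP : P.asIdeal.comap (Algebra.TensorProduct.includeRight :
        Γ(X, U) →ₐ[Γ(S, V)] TensorProduct Γ(S, V) p.ResidueField Γ(X, U)).toRingHom = q :=
      (PrimeSpectrum.coe_primesOverOrderIsoFiber_symm_apply (p := p) P).symm.trans
        (congrArg Subtype.val ((PrimeSpectrum.primesOverOrderIsoFiber Γ(S, V) Γ(X, U) p).symm_apply_apply _))
    have w : ∀ (P : Ideal (p.Fiber Γ(X, U))) [P.IsPrime] (r : Ideal Γ(X, U)) [r.IsPrime],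
        P.comap (Algebra.TensorProduct.includeRight :
          Γ(X, U) →ₐ[Γ(S, V)] TensorProduct Γ(S, V) p.ResidueField Γ(X, U)) = r →
        Nonempty (Localization.AtPrime P ≃+*
          Localization.AtPrime r ⧸ p.map (algebraMap Γ(S, V) (Localization.AtPrime r))) := by
      intro P _ r _ hr
      subst hr
      exact ⟨((Ideal.Fiber.algEquivAux₂ p P).toRingEquiv).trans (Ideal.quotEquivOfEq (by
        rw [Ideal.map_map, ← IsScalarTower.algebraMap_eq]))⟩
    obtain ⟨v⟩ := w P.asIdeal q hP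
    refine (isCI_iff_of_ringEquiv ?_).symm.trans (Iff.trans (isCIOver_iff_isCI p.ResidueField (p.Fiber Γ(X, U)) P.asIdeal).symm ?_)
    · exact v.trans u
    constructor
    · intro h
      haveI : Algebra.FinitePresentation Γ(X, U) (Localization.Away (1 : Γ(X, U))) :=
        IsLocalization.Away.finitePresentation 1
      exact SyntLCI.exists_syntomic_nhd_of_local p P.asIdeal q hP 1
        (fun h => Ideal.IsPrime.ne_top inferInstance ((Ideal.eq_top_iff_one q).2 h)) h
    · rintro ⟨g, hg, h⟩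
      exact SyntLCI.isCIOver_of_syntomic_nhd g h p P.asIdeal (fun hmem => hg (hP.le hmem))
  constructor
  · intro h
    obtain ⟨V, hV, hxV, -⟩ := exists_isAffineOpen_mem_and_subset (x := f x) (U := ⊤) trivial
    obtain ⟨U, hU, hxU, e⟩ := exists_isAffineOpen_mem_and_subset (x := x) (U := f ⁻¹ᵁ V) hxV
    obtain ⟨g, hg, hs⟩ := (key hU hV e hxU).1 h
    letI := (f.appLE V U e).hom.toAlgebra
    have hle : X.basicOpen g ≤ U := X.basicOpen_le g
    refine ⟨⟨X.basicOpen g, hU.basicOpen g⟩, ⟨V, hV⟩, hle.trans e,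
      (SyntLCI.mem_basicOpen_iff_notMem hU ⟨x, hxU⟩ g).2 hg, ?_⟩
    letI : Algebra Γ(X, U) Γ(X, X.basicOpen g) := (X.presheaf.map (homOfLE hle).op).hom.toAlgebra
    haveI : IsLocalization.Away g Γ(X, X.basicOpen g) := hU.isLocalization_basicOpen g
    letI algD : Algebra Γ(S, V) Γ(X, X.basicOpen g) := (f.appLE V (X.basicOpen g) (hle.trans e)).hom.toAlgebra
    haveI : IsScalarTower Γ(S, V) Γ(X, U) Γ(X, X.basicOpen g) := .of_algebraMap_eq' <| by
      show _ = (f.appLE V U e ≫ X.presheaf.map _).hom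
      rw [Scheme.Hom.appLE_map]; rfl
    exact SyntLCI.isSyntomic_congr _
      ((IsLocalization.algEquiv (Submonoid.powers g) (Localization.Away g) Γ(X, X.basicOpen g)).restrictScalars Γ(S, V)) hs
  · rintro ⟨⟨U, hU⟩, ⟨V, hV⟩, e, hx, hs⟩
    refine (key hU hV e hx).2 ⟨1, fun h => Ideal.IsPrime.ne_top inferInstance ((Ideal.eq_top_iff_one _).2 h), ?_⟩
    letI := (f.appLE V U e).hom.toAlgebra
    exact SyntLCI.isSyntomic_congr _ ((IsLocalization.atOne Γ(X, U) (Localization.Away (1 : Γ(X, U)))).restrictScalars Γ(S, V)) hs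

theorem isOpen_ciFibreLocus (f : X ⟶ S) [Flat f] [LocallyOfFinitePresentation f] :
    IsOpen {x : X | Pi1.IsCompleteIntersection (CInt.fiberStalk f x)} := by
  rw [isOpen_iff_forall_mem_open]
  intro x hx
  obtain ⟨U, V, e, hxU, hs⟩ := (isCI_fiberStalk_iff f x).1 hx
  exact ⟨(U.1 : Set X), fun y hy => (isCI_fiberStalk_iff f y).2 ⟨U, V, e, hy, hs⟩, U.1.isOpen, hxU⟩

end Groth.Agent.CIPres

end
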